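import Groth.Agent.Lib.KSix19.RelTensor
import Groth.Agent.Lib.KSix19.RelNoeth.Main
import Groth.Agent.Lib.KSix19.BettiExact.RelCoh
import Groth.Agent.Lib.ThickDesc6.Pull
import Groth.Agent.Lib.OX.CohRHom
import Groth.Agent.Lib.OX.Lpull
import Groth.Agent.Lib.OX.PullbackFlat
import Groth.Agent.Lib.RankStratum9.Basic
import Groth.Agent.Lib.QCoh.Qcqs
import Groth.Prelude.Def_HTor

/-! # Derived tensor products of coherent objects are coherent -/

set_option autoImplicit false
set_option maxHeartbeats 1000000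
universe u

open CategoryTheory CategoryTheory.Limits AlgebraicGeometry HomologicalComplex

attribute [local instance] HasDerivedCategory.standard

noncomputable section

namespace GrothLib.TorCoh22

open GrothLib.OX

variable {X Y Z : Scheme.{u}}

theorem isLE_toD (P : CochainComplex X.Modules ℤ) {b : ℤ} (hb : ∀ i, b < i → IsZero (P.X i)) :
    (DCoh.toD X P).IsLE b :=
  (DerivedCategory.isLE_iff _ _).2 fun i hi =>
    ((exactAt_iff_isZero_homology _ i).1 (ExactAt.of_isZero (hb i hi))).of_iso (hdIso P i)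

theorem isCohD_lpull [IsLocallyNoetherian X] [IsLocallyNoetherian Y] (f : X ⟶ Y) [DCoh.HasLpull f] {K : DCoh.D Y}
    (b : ℤ) [K.IsLE b] (hK : DCoh.IsCohD K) : DCoh.IsCohD ((DCoh.Lpull f).obj K) := fun i =>
  KSix19.BettiExact.isCoh_HD_of_pseudoCoherent
    (OX.isPseudoCoherent_lpull f (OX.isPseudoCoherentD_of_isCohD hK b (i - 1))) (by omega)

/-- The derived tensor product of bounded above coherent objects is coherent. -/
theorem isCohD_ltensor [IsLocallyNoetherian X] (E : CochainComplex X.Modules ℤ) [DCoh.HasLTensorCx E] {b : ℤ}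
    [(DCoh.toD X E).IsLE b] (hE : DCoh.IsCohD (DCoh.toD X E)) {F : DCoh.D X} (d : ℤ) [F.IsLE d]
    (hF : DCoh.IsCohD F) : DCoh.IsCohD ((DCoh.LTensorCx E).obj F) := by
  haveI : DCoh.HasLpull (𝟙 X) := OX.hasLpull _
  have hrel : ∀ {K : DCoh.D X} (c : ℤ), K.IsLE c → DCoh.IsCohD K → DerSch.IsPseudoCoherentRelAll (𝟙 X) K :=
    fun {K} c hc hK => KSix19.RelNoeth.isPseudoCoherentRelAll_of_coh (𝟙 X) hK fun y => ⟨⊤, c, trivial, fun i hi =>
      (Scheme.Modules.restrictFunctor _).map_isZero (haveI := hc; DerivedCategory.isZero_of_isLE K c i hi)⟩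
  obtain ⟨P, hP, ⟨e⟩⟩ := exists_kflat_rep F
  obtain ⟨v⟩ := lpull_value (𝟙 X) P hP
  let w : (DCoh.Lpull (𝟙 X)).obj F ≅ F := (DCoh.Lpull (𝟙 X)).mapIso e.symm ≪≫ v ≪≫
    DerivedCategory.Q.mapIso ((NatIso.mapHomologicalComplex (Scheme.Modules.pullbackId X) (ComplexShape.up ℤ)).app P ≪≫
      (Functor.mapHomologicalComplexIdIso X.Modules (ComplexShape.up ℤ)).app P) ≪≫ e
  refine KSix19.BettiExact.isCohD_of_isPseudoCoherentRelAll (𝟙 X ≫ 𝟙 X) fun m => ?_
  have h := (KSix19.isPseudoCoherentRel_ltensor_lpull (𝟙 X) (𝟙 X) (E := E) (a := m - d) (b := b) (c := m - b) (d := d)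
    (fun i => (hE i).1) (hrel b inferInstance hE (m - d)) (fun i => (hF i).1) (hrel d inferInstance hF (m - b))).1
  rw [show max (m - d + d) (b + (m - b)) = m by omega] at h
  exact KSix19.isPseudoCoherentRel_of_iso ((DCoh.LTensorCx E).mapIso w) h

/-- Flat pullback of a complex with coherent cohomology. -/
theorem isCohD_pullCx (f : X ⟶ Y) [Flat f] {Q : CochainComplex Y.Modules ℤ} (hQ : DCoh.IsCohD (DCoh.toD Y Q)) :
    DCoh.IsCohD (DCoh.toD X ((HTor.pullCx f).obj Q)) := fun i => by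
  haveI := OX.additive_pullback f
  haveI := OX.preservesFiniteLimits_pullback_of_flat f
  haveI : (DCoh.HD (DCoh.toD Y Q) i).IsQuasicoherent := (hQ i).1
  refine QCoh.isCoh_of_iso ((Scheme.Modules.pullback f).mapIso (hdIso Q i) ≪≫
    ((Q.sc i).mapHomologyIso (Scheme.Modules.pullback f)).symm ≪≫ (hdIso ((HTor.pullCx f).obj Q) i).symm) ?_
  exact ⟨FittSheaf.isQuasicoherent_pullback f _, RankStratum9.isFT_pullback f _ (hQ i).2⟩

/-- **The local Tor complex of coherent objects over a flat base change is coherent.** -/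
theorem isCohD_localTor {S : Scheme.{u}} (f : X ⟶ S) (g : Y ⟶ S) [Flat f]
    [IsLocallyNoetherian X] [IsLocallyNoetherian (pullback f g)]
    (P : CochainComplex X.Modules ℤ) (Q : CochainComplex Y.Modules ℤ) (p q : ℤ)
    [(DCoh.toD X P).IsLE p] (hbQ : ∀ i, q < i → IsZero (Q.X i))
    (hP : DCoh.IsCohD (DCoh.toD X P)) (hQ : DCoh.IsCohD (DCoh.toD Y Q))
    [DCoh.HasLpull (pullback.fst f g)] [DCoh.HasLTensorCx ((HTor.pullCx (pullback.snd f g)).obj Q)] :
    DCoh.IsCohD ((DCoh.LTensorCx ((HTor.pullCx (pullback.snd f g)).obj Q)).obj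
      ((DCoh.Lpull (pullback.fst f g)).obj (DCoh.toD X P))) := by
  haveI := ThickDesc6.isLE_lpull (pullback.fst f g) (K := DCoh.toD X P) (b := p) inferInstance
  haveI := OX.additive_pullback (pullback.snd f g)
  haveI := isLE_toD ((HTor.pullCx (pullback.snd f g)).obj Q) (b := q)
    (fun i hi => (Scheme.Modules.pullback _).map_isZero (hbQ i hi))
  exact isCohD_ltensor _ (b := q) (isCohD_pullCx _ hQ) p (isCohD_lpull _ p hP)

end GrothLib.TorCoh22
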